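import Mathlib
import Cfsg.Agent.SF4.Rt
import Cfsg.Prelude.Def_ChevF4
import Cfsg.Prelude.Def_ChevAutomorphisms

/-! FF-Bas1T: the exponents in the commutator formula of type `F₄` in characteristic two -/

set_option autoImplicit false
set_option linter.unusedSectionVars false

namespace Cfsg.Agent.FF.B1F

open Cfsg Cfsg.Lie Cfsg.Agent.SF4

/-- The exponents of the two coefficients (second root first). -/
def ex (r s q : Rt) : ℕ × ℕ := if q = ad r s then (1, 1) else if lg r then (2, 1) else (1, 2)

theorem t_ex : ∀ r s : Rt, r ≠ s → r ≠ ng s →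
    ((chevF4.commTerms s r).filter fun c => c.2.1 % 2 = 1).map (fun c => (c.1, c.2.2)) =
      (cm1 r s).map fun q => (q.val, ex r s q) := by
  decide +kernel

theorem t_lg : ∀ r s : Rt, (cm1 r s).length = 2 → lg s = !lg r := by decide +kernel

end Cfsg.Agent.FF.B1F
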